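import Cfsg.Agent.J4NonLocal.MTwentyTwo.El
import Cfsg.Agent.J4NonLocal.MTwentyTwo.Data.Eleven
import Cfsg.Agent.J4NonLocal.MTwentyTwo.Data.Seven
import Cfsg.Agent.J4NonLocal.AutM.Table
import Cfsg.Agent.J4Maximal.Base
import Cfsg.Agent.J4Eleven.Checks

/-!
The finite checks for two normalisers over the subgroup M22:2.
-/

set_option autoImplicit false
set_option maxRecDepth 20000
set_option Elab.async false

namespace Cfsg.Lib.J4NonLocal.MTwentyTwo

open Cfsg.Lib.J4Cert Cfsg.Lib.J4Maximal

/-- The letters that normalise the element of order 11, with their exponents. -/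
def elevenExp : List (ℕ × ℕ) := [(0, 1), (1, 8), (5, 10), (6, 4)]
/-- The letters that normalise the element of order 7, with their exponents. -/
def sevenExp : List (ℕ × ℕ) := [(3, 1), (4, 2), (8, 2), (9, 1)]

/-- The known elements among the letters. -/
def knownOK : Bool :=
  leq (letA pm 0) (AutM.nd 237) && leq (letA pm 1) (AutM.nd 441) && leq (letA pm 2) (AutM.nd 764) &&
    leq (letA pm 10) J4Eleven.mX &&
    sameW pm [3] [0, 2, 0, 1, 1, 2, 0, 1, 0, 2, 0, 1, 1, 0, 1] && sameW pm [4] [2, 0, 1, 2, 0, 1, 0, 2, 0, 0, 1] &&
    sameW pm [0, 7] [7, 10] && sameW pm (List.replicate 14 3) [] && !sameW pm [3, 3] []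

theorem known_ok : knownOK = true := by decide +kernel

theorem eleven_ok : (elevenExp.all fun e =>
    sameW pm ([e.1] ++ (List.replicate e.2 [0]).flatten) ([0] ++ [e.1])) = true := by decide +kernel
theorem seven_ok : (sevenExp.all fun e =>
    sameW pm ([e.1] ++ (List.replicate e.2 [3, 3]).flatten) ([3, 3] ++ [e.1])) = true := by decide +kernel

theorem eleven_shape : eleven.shapeOK ptabs 11 = true := by decide +kernel
theorem eleven_keys : eleven.keysOK ptabs = true := by decide +kernel
theorem eleven_crt : eleven.crtOK ptabs 11 5 = true := by decide +kernel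
theorem eleven_low : ((eleven.fix ++ eleven.lef ++ eleven.rig).all fun w => w.all fun k => Nat.blt k 5) = true := by
  decide +kernel
theorem eleven_in : ([eleven.fix, eleven.lef, eleven.reps, eleven.rig].all fun L => L.all fun w =>
    w.all fun k => (elevenExp.map Prod.fst).elem k) = true := by decide +kernel
theorem eleven_count : eleven.fix.length = 110 ∧ eleven.ents.length = 22 ∧ eleven.zeros.length = 1 := by
  decide +kernel

theorem seven_shape : seven.shapeOK ptabs 11 = true := by decide +kernel
theorem seven_keys : seven.keysOK ptabs = true := by decide +kernel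
theorem seven_crt : seven.crtOK ptabs 11 5 = true := by decide +kernel
theorem seven_low : ((seven.fix ++ seven.lef ++ seven.rig).all fun w => w.all fun k => Nat.blt k 5) = true := by
  decide +kernel
theorem seven_in : ([seven.fix, seven.lef, seven.reps, seven.rig].all fun L => L.all fun w =>
    w.all fun k => (sevenExp.map Prod.fst).elem k) = true := by decide +kernel
theorem seven_count : seven.fix.length = 42 ∧ seven.ents.length = 60 ∧ seven.zeros.length = 1 := by decide +kernel

/-- The exact row of the prime 7. -/
def r7m : Row := ⟨7, [(2, 1), (3, 1), (7, 1)], 42, 0, 7⟩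
/-- The exact row of the prime 11. -/
def r11m : Row := ⟨11, [(2, 1), (5, 1), (11, 1)], 110, 0, 11⟩

/-- The cofactor of the subgroup M22:2. -/
def fkM : List (ℕ × ℕ) := [(2, 13), (3, 1), (11, 2), (23, 1), (29, 1), (31, 1), (37, 1), (43, 1)]

theorem survivors_ok :
    survivors 887040 fkM [r11m, r7m, r5 1, r23 1, r29, r31 1, r37, r43 0] = [1] := by decide +kernel

end Cfsg.Lib.J4NonLocal.MTwentyTwo
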