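import Cfsg.Agent.J4NonLocal.Pool
import Cfsg.Agent.J4NonLocal.MTwentyTwo.Data.Tables
import Cfsg.Agent.J4NonLocal.MTwentyTwo.Data.Pool

/-!
The elements of a subgroup M22:2 and their matrices.
-/

set_option autoImplicit false
set_option maxRecDepth 20000
set_option Elab.async false

namespace Cfsg.Lib.J4NonLocal.MTwentyTwo

open Cfsg Cfsg.Lib.J4Cert Cfsg.Lib.J4NonLocal

/-- The matrices by index. -/
def nd (k : ℕ) : List ℕ := bif Nat.blt k 548 then J4Eleven.em k else ndTab.get (k - 548)

/-- The matrices of the pool. -/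
def pm : List (List ℕ) := pnode.map nd

theorem nd_low : ∀ l < 4, nd l = letM l := by decide +kernel
theorem prog0_ok : progOK nd 548 ndProg0 = true := by decide +kernel
theorem prog1_ok : progOK nd 628 ndProg1 = true := by decide +kernel
theorem prog2_ok : progOK nd 708 ndProg2 = true := by decide +kernel
theorem prog3_ok : progOK nd 788 ndProg3 = true := by decide +kernel
theorem prog4_ok : progOK nd 868 ndProg4 = true := by decide +kernel
theorem prog5_ok : progOK nd 948 ndProg5 = true := by decide +kernel
theorem prog6_ok : progOK nd 1028 ndProg6 = true := by decide +kernel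
theorem prog7_ok : progOK nd 1108 ndProg7 = true := by decide +kernel
theorem prog8_ok : progOK nd 1188 ndProg8 = true := by decide +kernel
theorem prog9_ok : progOK nd 1268 ndProg9 = true := by decide +kernel
theorem prog10_ok : progOK nd 1348 ndProg10 = true := by decide +kernel
theorem prog11_ok : progOK nd 1428 ndProg11 = true := by decide +kernel
theorem prog12_ok : progOK nd 1508 ndProg12 = true := by decide +kernel
theorem tabs_ok : poolOK pm ptabs = true := by decide +kernel
theorem pnode_lt : (pnode.all fun j => Nat.blt j 1555) = true := by decide +kernel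
theorem pm_length : pm.length = 11 := by decide +kernel

theorem nd_mem : ∀ j < 1555, ∃ g, MOK g (nd j) := by
  have h0 : ∀ j < 548, ∃ g, MOK g (nd j) := fun j hj => by
    unfold nd
    rw [show Nat.blt j 548 = true by simpa using hj]
    exact J4Eleven.em_mem j hj
  have h1 : ∀ j < 628, ∃ g, MOK g (nd j) := progOK_sound nd_low ndProg0 548 prog0_ok h0
  have h2 : ∀ j < 708, ∃ g, MOK g (nd j) := progOK_sound nd_low ndProg1 628 prog1_ok h1
  have h3 : ∀ j < 788, ∃ g, MOK g (nd j) := progOK_sound nd_low ndProg2 708 prog2_ok h2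
  have h4 : ∀ j < 868, ∃ g, MOK g (nd j) := progOK_sound nd_low ndProg3 788 prog3_ok h3
  have h5 : ∀ j < 948, ∃ g, MOK g (nd j) := progOK_sound nd_low ndProg4 868 prog4_ok h4
  have h6 : ∀ j < 1028, ∃ g, MOK g (nd j) := progOK_sound nd_low ndProg5 948 prog5_ok h5
  have h7 : ∀ j < 1108, ∃ g, MOK g (nd j) := progOK_sound nd_low ndProg6 1028 prog6_ok h6
  have h8 : ∀ j < 1188, ∃ g, MOK g (nd j) := progOK_sound nd_low ndProg7 1108 prog7_ok h7
  have h9 : ∀ j < 1268, ∃ g, MOK g (nd j) := progOK_sound nd_low ndProg8 1188 prog8_ok h8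
  have h10 : ∀ j < 1348, ∃ g, MOK g (nd j) := progOK_sound nd_low ndProg9 1268 prog9_ok h9
  have h11 : ∀ j < 1428, ∃ g, MOK g (nd j) := progOK_sound nd_low ndProg10 1348 prog10_ok h10
  have h12 : ∀ j < 1508, ∃ g, MOK g (nd j) := progOK_sound nd_low ndProg11 1428 prog11_ok h11
  have h13 : ∀ j < 1555, ∃ g, MOK g (nd j) := progOK_sound nd_low ndProg12 1508 prog12_ok h12
  exact h13

/-- The elements. -/
noncomputable def P : Pool pm ptabs := (exists_pool (mem_map_nd nd_mem pnode_lt) tabs_ok).some

end Cfsg.Lib.J4NonLocal.MTwentyTwo
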