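import Cfsg.Agent.J4NonLocal.MTwentyTwo.Checks
import Cfsg.Agent.J4NonLocal.AutM.Members
import Cfsg.Agent.J4NonLocal.Rows
import Cfsg.Agent.J4NonLocal.Normal
import Cfsg.Agent.J4NonLocal.Cyclic
import Cfsg.Agent.JankoFour.MathieuGens

/-!
The subgroup M22:2 of the fourth Janko group is maximal.
-/

set_option autoImplicit false
set_option maxRecDepth 20000
set_option synthInstance.maxSize 4000
set_option linter.style.haveILetI false

namespace Cfsg.Lib.J4NonLocal.MTwentyTwo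

open Cfsg Cfsg.Lib.J4Cert Cfsg.Lib.J4Maximal Subgroup

attribute [local irreducible] mB tabs4 vt pm ptabs eleven seven AutM.nd J4Eleven.mX

/-- The value of a pool letter. -/
noncomputable def g (k : ℕ) : Spor.J4 := P.el k

theorem known : g 0 = AutM.m22a ∧ g 1 = AutM.m22h ∧ g 2 = AutM.m22v ∧ g 10 = J4Eleven.eX ∧
    g 3 = P.ev [0, 2, 0, 1, 1, 2, 0, 1, 0, 2, 0, 1, 1, 0, 1] ∧ g 4 = P.ev [2, 0, 1, 2, 0, 1, 0, 2, 0, 0, 1] ∧
    g 0 * g 7 = g 7 * g 10 ∧ g 3 ^ 14 = 1 ∧ g 3 * g 3 ≠ 1 := by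
  have h := known_ok
  simp only [knownOK, Bool.and_eq_true, Bool.not_eq_true'] at h
  obtain ⟨⟨⟨⟨⟨⟨⟨⟨h1, h2⟩, h3⟩, h4⟩, h5⟩, h6⟩, h7⟩, h8⟩, h9⟩ := h
  refine ⟨J4Eleven.eq_of_leq (P.ok 0) AutM.a_mok h1, J4Eleven.eq_of_leq (P.ok 1) AutM.h_mok h2,
    J4Eleven.eq_of_leq (P.ok 2) AutM.v_mok h3, J4Eleven.eq_of_leq (P.ok 10) J4Eleven.eX_ok h4, ?_, ?_, ?_, ?_, ?_⟩
  · exact (P.ev_single 3).symm.trans (P.ev_eq h5)
  · exact (P.ev_single 4).symm.trans (P.ev_eq h6)
  · have := P.ev_eq h7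
    simpa only [g, P.ev_cons, P.ev_nil, mul_one] using this
  · exact (P.ev_rep 3 14).symm.trans (P.ev_eq h8)
  · have := P.ev_ne_one h9
    simpa only [g, P.ev_cons, P.ev_nil, mul_one] using this

theorem g_mem_S : ∀ k < 5, g k ∈ AutM.S22 := by
  obtain ⟨h0, h1, h2, -, h3, h4, -⟩ := known
  have hl : ∀ k < 3, g k ∈ AutM.S22 := fun k hk => by
    interval_cases k
    exacts [h0 ▸ AutM.m22a_mem, h1 ▸ AutM.m22h_mem, h2 ▸ AutM.m22v_mem]
  intro k hk
  interval_cases k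
  exacts [hl 0 (by norm_num), hl 1 (by norm_num), hl 2 (by norm_num),
    h3 ▸ P.ev_mem fun j hj => hl j (by simp at hj; omega), h4 ▸ P.ev_mem fun j hj => hl j (by simp at hj; omega)]

theorem a_order : orderOf (g 0) = 11 := by
  obtain ⟨-, -, -, h10, -, -, h7, -⟩ := known
  have e : g 0 = g 7 * g 10 * (g 7)⁻¹ := by rw [← h7, mul_inv_cancel_right]
  rw [e, h10]
  exact (orderOf_injective (MulAut.conj (g 7)).toMonoidHom (MulAut.conj (g 7)).injective J4Eleven.eX).trans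
    J4Eleven.two_classes.1

theorem q_order : orderOf (g 3 * g 3) = 7 := by
  haveI : Fact (Nat.Prime 7) := ⟨by norm_num⟩
  obtain ⟨-, -, -, -, -, -, -, h14, hne⟩ := known
  refine orderOf_eq_prime ?_ hne
  rw [← pow_two (g 3), ← pow_mul]
  exact h14

variable (E : Env)
include E

theorem norm_eleven_le : Nat.card ↥(normalizer (zpowers (g 0) : Set Spor.J4)) ≤ 2420 := by
  haveI := finite_J4
  haveI : Fact (Nat.Prime 11) := ⟨by norm_num⟩
  obtain ⟨-, -, -, h10, -, -, h7, -⟩ := known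
  refine (card_normalizer_zpowers_le a_order).trans ?_
  have hle : (centralizer ({g 0} : Set Spor.J4)).map (MulAut.conj (g 7)⁻¹).toMonoidHom ≤
      centralizer ({J4Eleven.eX} : Set Spor.J4) := by
    rintro _ ⟨y, hy, rfl⟩
    have hy' := mem_centralizer_singleton_iff.mp hy
    rw [mem_centralizer_singleton_iff, ← h10, show g 10 = (g 7)⁻¹ * g 0 * g 7 by
      rw [mul_assoc, h7, inv_mul_cancel_left]]
    show (g 7)⁻¹ * y * ((g 7)⁻¹)⁻¹ * ((g 7)⁻¹ * g 0 * g 7) = (g 7)⁻¹ * g 0 * g 7 * ((g 7)⁻¹ * y * ((g 7)⁻¹)⁻¹)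
    calc (g 7)⁻¹ * y * ((g 7)⁻¹)⁻¹ * ((g 7)⁻¹ * g 0 * g 7) = (g 7)⁻¹ * (y * g 0) * g 7 := by group
      _ = (g 7)⁻¹ * (g 0 * y) * g 7 := by rw [hy']
      _ = _ := by group
  have h := card_le_of_le hle
  rw [card_map_of_injective (MulAut.conj (g 7)⁻¹).injective] at h
  exact Nat.mul_le_mul (le_refl 10) (h.trans E.centX)

/-- The two normalisers inside a proper subgroup containing M22:2. -/
theorem inf_counts {H : Subgroup Spor.J4} (hH : ∀ k < 5, g k ∈ H) (hne : H ≠ ⊤) :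
    Nat.card ↥(H ⊓ normalizer (zpowers (g 0) : Set Spor.J4)) = 110 ∧
      Nat.card ↥(H ⊓ normalizer (zpowers (g 3 * g 3) : Set Spor.J4)) = 42 := by
  haveI := finite_J4
  have hN7 : Nat.card ↥(normalizer (zpowers (g 3 * g 3) : Set Spor.J4)) = 2520 :=
    E.norm 7 1 2520 (by simp) _ (by rw [Nat.card_zpowers, q_order, pow_one])
  have e3 : P.ev [3, 3] = g 3 * g 3 := by simp only [g, P.ev_cons, P.ev_nil, mul_one]
  have e0 : P.ev [0] = g 0 := P.ev_single 0
  obtain ⟨a1, a2, a3⟩ := eleven_count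
  obtain ⟨b1, b2, b3⟩ := seven_count
  have hA := eleven.forced P (nM := 5) (by rw [pm_length]; exact eleven_shape) eleven_keys
    (by rw [pm_length]; exact eleven_crt) eleven_low
    (inside_of P eleven (e0 ▸ P.normalizes eleven_ok) eleven_in)
    (by rw [a1, a2]; exact norm_eleven_le E) (H := H) hH (E.not_big hne)
  have hB := seven.forced P (nM := 5) (by rw [pm_length]; exact seven_shape) seven_keys
    (by rw [pm_length]; exact seven_crt) seven_low
    (inside_of P seven (e3 ▸ P.normalizes seven_ok) seven_in)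
    (by rw [b1, b2, hN7]) (H := H) hH (E.not_big hne)
  exact ⟨by rw [hA.1, a1, a3], by rw [hB.1, b1, b3]⟩

omit E in
theorem card_S : Nat.card AutM.S22 = 887040 := by
  obtain ⟨e⟩ := AutM.exists_m22_two
  rw [Nat.card_congr e.toEquiv, Cfsg.Lib.JankoFour.card_aut_M22.1]

theorem isCoatom_S : IsCoatom AutM.S22 := by
  classical
  haveI := finite_J4
  haveI : Fact (Nat.Prime 7) := ⟨by norm_num⟩
  haveI : Fact (Nat.Prime 11) := ⟨by norm_num⟩
  have hS := card_S
  refine ⟨fun h => ?_, fun M hM => ?_⟩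
  · rw [h, card_top, E.card] at hS
    exact absurd hS (by decide)
  by_contra hne
  have hMg : ∀ k < 5, g k ∈ M := fun k hk => hM.le (g_mem_S k hk)
  obtain ⟨h110, h42⟩ := inf_counts E hMg hne
  obtain ⟨U, hU⟩ : ∃ U : Sylow 7 Spor.J4, (U : Subgroup Spor.J4) = zpowers (g 3 * g 3) :=
    ⟨Sylow.ofCard _ (by rw [Nat.card_zpowers, q_order, E.part (n := 1) (by norm_num) (by decide +kernel) (by decide +kernel), pow_one]),
      Sylow.coe_ofCard _ _⟩
  have s7 : r7m.Sound (Nat.card M) := by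
    refine sound_exact (q := 7) U ?_ ?_ ?_ (by decide) rfl (mod_q M)
    · rw [hU, zpowers_le]
      exact mul_mem (hMg 3 (by norm_num)) (hMg 3 (by norm_num))
    · rw [hU, Nat.card_zpowers, q_order]; rfl
    · rw [hU, h42]; rfl
  have s11 : r11m.Sound (Nat.card M) := fun _ => by
    obtain ⟨-, hd, hm⟩ := cyclic_count (p := 11) a_order (hMg 0 (by norm_num)) h110 (by norm_num)
    exact ⟨110, by decide, by decide, dvd_refl _, by decide, hd, hm⟩
  obtain ⟨k, hk, hMk⟩ := exists_index hM.le hS (fk := fkM) (by simp [fkM]; norm_num)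
    (by rw [E.card]; decide +kernel) (rows := [r11m, r7m, r5 1, r23 1, r29, r31 1, r37, r43 0]) (by
      intro r hr
      simp only [List.mem_cons, List.not_mem_nil, or_false] at hr
      rcases hr with rfl | rfl | rfl | rfl | rfl | rfl | rfl | rfl
      exacts [⟨by simp [r11m]; norm_num, s11⟩, ⟨by simp [r7m]; norm_num, s7⟩, ⟨by simp [r5]; norm_num, E.sound5 M⟩,
        ⟨by simp [r23]; norm_num, E.sound23 M⟩, ⟨by simp [r29]; norm_num, E.sound29 M⟩,
        ⟨by simp [r31]; norm_num, E.sound31 M⟩, ⟨by simp [r37]; norm_num, E.sound37 M⟩,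
        ⟨by simp [r43]; norm_num, E.sound43 M⟩])
  rw [survivors_ok, List.mem_singleton] at hk
  subst hk
  exact hM.ne' (eq_of_index_one hM.le hS hMk)

theorem exists_maximal : ∃ M : Subgroup Spor.J4, IsCoatom M ∧ Nonempty (↥M ≃* MulAut ↥Cfsg.Spor.M22) :=
  ⟨AutM.S22, isCoatom_S E, AutM.exists_m22_two⟩

end Cfsg.Lib.J4NonLocal.MTwentyTwo
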